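import Mathlib

/-!
# Signed permutation matrices of a twisted group algebra over the field with two elements
-/

set_option autoImplicit false

namespace Cfsg.Agent.Lib.Helper5.Tw

open Matrix

/-- the sign of an element of `ZMod 2` -/
def sg (a : ZMod 2) : ℝ := if a = 0 then 1 else -1

theorem zmod2_eq_zero_or_one : ∀ a : ZMod 2, a = 0 ∨ a = 1 := by decide

theorem one_ne_zero_zmod2 : (1 : ZMod 2) ≠ 0 := by decide

theorem one_add_one_zmod2 : (1 : ZMod 2) + 1 = 0 := by decide

theorem sg_zero : sg 0 = 1 := by simp [sg]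

theorem sg_one : sg 1 = -1 := by simp [sg, one_ne_zero_zmod2]

theorem sg_add (a b : ZMod 2) : sg (a + b) = sg a * sg b := by
  rcases zmod2_eq_zero_or_one a with rfl | rfl <;> rcases zmod2_eq_zero_or_one b with rfl | rfl
  · simp [sg_zero]
  · simp [sg_zero, sg_one]
  · simp [sg_zero, sg_one]
  · rw [one_add_one_zmod2, sg_zero, sg_one]; norm_num

theorem sg_mul_self (a : ZMod 2) : sg a * sg a = 1 := by
  rcases zmod2_eq_zero_or_one a with rfl | rfl
  · simp [sg_zero]
  · simp [sg_one]

theorem sg_ne_zero (a : ZMod 2) : sg a ≠ 0 := by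
  rcases zmod2_eq_zero_or_one a with rfl | rfl
  · simp [sg_zero]
  · simp [sg_one]

theorem sg_eq_one_iff (a : ZMod 2) : sg a = 1 ↔ a = 0 := by
  rcases zmod2_eq_zero_or_one a with rfl | rfl
  · simp [sg_zero]
  · simp [sg_one, one_ne_zero_zmod2]; norm_num

theorem sg_eq_or (a : ZMod 2) : sg a = 1 ∨ sg a = -1 := by
  rcases zmod2_eq_zero_or_one a with rfl | rfl
  · simp [sg_zero]
  · simp [sg_one]

theorem sg_injective : Function.Injective sg := by
  intro a b h
  rcases zmod2_eq_zero_or_one a with rfl | rfl <;> rcases zmod2_eq_zero_or_one b with rfl | rfl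
  · rfl
  · rw [sg_zero, sg_one] at h; norm_num at h
  · rw [sg_zero, sg_one] at h; norm_num at h
  · rfl

section
variable {U : Type*} [AddCommGroup U] [Module (ZMod 2) U]

theorem add_self_zero (u : U) : u + u = 0 := by
  have h : (2 : ZMod 2) • u = u + u := two_smul _ u
  rw [← h]
  have : (2 : ZMod 2) = 0 := by decide
  rw [this, zero_smul]

theorem add_add_cancel_self (u v : U) : u + (u + v) = v := by
  rw [← add_assoc, add_self_zero, zero_add]

theorem eq_add_iff (a u b : U) : a = u + b ↔ b = u + a := by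
  constructor
  · rintro rfl; rw [add_add_cancel_self]
  · rintro rfl; rw [add_add_cancel_self]

variable [Fintype U] [DecidableEq U] (β : LinearMap.BilinForm (ZMod 2) U)

/-- the signed permutation matrix of `u` -/
def Lm (u : U) : Matrix U U ℝ := Matrix.of fun a b => if a = u + b then sg (β u b) else 0

theorem Lm_apply (u a b : U) : Lm β u a b = if a = u + b then sg (β u b) else 0 := rfl

theorem Lm_mul (u v : U) : Lm β u * Lm β v = sg (β u v) • Lm β (u + v) := by
  ext a b
  rw [Matrix.mul_apply, Matrix.smul_apply, smul_eq_mul, Lm_apply]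
  rw [Finset.sum_eq_single (v + b)]
  · rw [Lm_apply, Lm_apply, if_pos rfl]
    by_cases h : a = u + (v + b)
    · rw [if_pos h, if_pos (by rw [h, add_assoc])]
      rw [← sg_add, ← sg_add]
      congr 1
      simp only [map_add, LinearMap.add_apply]
      ring
    · rw [if_neg h, if_neg (by rw [add_assoc]; exact h)]
      simp
  · intro c _ hc
    rw [Lm_apply β v, if_neg hc, mul_zero]
  · intro h
    exact absurd (Finset.mem_univ _) h

theorem Lm_zero : Lm β 0 = 1 := by
  ext a b
  rw [Lm_apply, Matrix.one_apply]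
  simp [sg_zero]

theorem Lm_col_zero (u w : U) : Lm β u w 0 = if w = u then 1 else 0 := by
  rw [Lm_apply]
  simp [sg_zero]

theorem Lm_mul_self (u : U) : Lm β u * Lm β u = sg (β u u) • (1 : Matrix U U ℝ) := by
  rw [Lm_mul, add_self_zero, Lm_zero]

theorem Lm_transpose (u : U) : (Lm β u)ᵀ = sg (β u u) • Lm β u := by
  ext a b
  rw [Matrix.transpose_apply, Matrix.smul_apply, smul_eq_mul, Lm_apply, Lm_apply]
  by_cases h : b = u + a
  · rw [if_pos h, if_pos ((eq_add_iff a u b).2 h), h, ← sg_add]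
    congr 1
    simp only [map_add]
    have := add_self_zero (β u u)
    rw [← add_assoc, this, zero_add]
  · rw [if_neg h, if_neg (fun h' => h ((eq_add_iff a u b).1 h'))]
    simp

theorem Lm_transpose_mul (u : U) : (Lm β u)ᵀ * Lm β u = 1 := by
  rw [Lm_transpose, Matrix.smul_mul, Lm_mul_self, smul_smul, sg_mul_self, one_smul]

theorem Lm_mul_transpose (u : U) : Lm β u * (Lm β u)ᵀ = 1 := by
  rw [Lm_transpose, Matrix.mul_smul, Lm_mul_self, smul_smul, sg_mul_self, one_smul]

theorem Lm_comm (u v : U) : Lm β u * Lm β v = sg (β u v + β v u) • (Lm β v * Lm β u) := by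
  rw [Lm_mul, Lm_mul, smul_smul, add_comm v u, sg_add, mul_assoc, sg_mul_self, mul_one]

/-- `L_uᵀ L_v = ± L_{u+v}ᵀ` -/
theorem Lm_transpose_mul_Lm (u v : U) :
    (Lm β u)ᵀ * Lm β v = sg (β v (u + v)) • (Lm β (u + v))ᵀ := by
  have h1 : Lm β v * Lm β (u + v) = sg (β v (u + v)) • Lm β u := by
    rw [Lm_mul]
    congr 2
    rw [add_comm u v, add_add_cancel_self]
  calc (Lm β u)ᵀ * Lm β v = (Lm β u)ᵀ * (Lm β v * Lm β (u + v)) * (Lm β (u + v))ᵀ := by
        rw [Matrix.mul_assoc, Matrix.mul_assoc, Lm_mul_transpose, Matrix.mul_one]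
    _ = sg (β v (u + v)) • (Lm β (u + v))ᵀ := by
        rw [h1, Matrix.mul_smul, Lm_transpose_mul, Matrix.smul_mul, Matrix.one_mul]

end

end Cfsg.Agent.Lib.Helper5.Tw
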