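import Mathlib
import Cfsg.Agent.Lib.Helper5.Tw.Tw1

/-!
# The span of the signed permutation matrices: entries, centre, twisted centralisers
-/

set_option autoImplicit false

namespace Cfsg.Agent.Lib.Helper5.Tw

open Matrix

section
variable {U : Type*} [AddCommGroup U] [Module (ZMod 2) U] [Fintype U] [DecidableEq U]
  (β : LinearMap.BilinForm (ZMod 2) U)

/-- the twisted group algebra, as a space of matrices -/
def TwA : Submodule ℝ (Matrix U U ℝ) := Submodule.span ℝ (Set.range (Lm β))

theorem Lm_mem (u : U) : Lm β u ∈ TwA β := Submodule.subset_span ⟨u, rfl⟩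

theorem one_mem_TwA : (1 : Matrix U U ℝ) ∈ TwA β := by
  rw [← Lm_zero β]
  exact Lm_mem β 0

theorem mul_mem_TwA {x y : Matrix U U ℝ} (hx : x ∈ TwA β) (hy : y ∈ TwA β) : x * y ∈ TwA β := by
  unfold TwA at hx hy ⊢
  induction hx using Submodule.span_induction with
  | mem x h =>
    obtain ⟨u, rfl⟩ := h
    induction hy using Submodule.span_induction with
    | mem y h =>
      obtain ⟨v, rfl⟩ := h
      rw [Lm_mul]
      exact Submodule.smul_mem _ _ (Submodule.subset_span ⟨_, rfl⟩)
    | zero => rw [Matrix.mul_zero]; exact Submodule.zero_mem _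
    | add y z _ _ ihy ihz => rw [Matrix.mul_add]; exact Submodule.add_mem _ ihy ihz
    | smul a y _ ih => rw [Matrix.mul_smul]; exact Submodule.smul_mem _ _ ih
  | zero => rw [Matrix.zero_mul]; exact Submodule.zero_mem _
  | add x z _ _ ihx ihz => rw [Matrix.add_mul]; exact Submodule.add_mem _ ihx ihz
  | smul a x _ ih => rw [Matrix.smul_mul]; exact Submodule.smul_mem _ _ ih

theorem transpose_mem_TwA {x : Matrix U U ℝ} (hx : x ∈ TwA β) : xᵀ ∈ TwA β := by
  unfold TwA at hx ⊢
  induction hx using Submodule.span_induction with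
  | mem x h =>
    obtain ⟨u, rfl⟩ := h
    rw [Lm_transpose]
    exact Submodule.smul_mem _ _ (Submodule.subset_span ⟨_, rfl⟩)
  | zero => rw [Matrix.transpose_zero]; exact Submodule.zero_mem _
  | add x z _ _ ihx ihz => rw [Matrix.transpose_add]; exact Submodule.add_mem _ ihx ihz
  | smul a x _ ih => rw [Matrix.transpose_smul]; exact Submodule.smul_mem _ _ ih

theorem sum_mem_TwA {ι : Type*} (s : Finset ι) (f : ι → Matrix U U ℝ)
    (h : ∀ i ∈ s, f i ∈ TwA β) : ∑ i ∈ s, f i ∈ TwA β := Submodule.sum_mem _ h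

theorem add_eq_iff (a b u : U) : a + b = u ↔ a = u + b := by
  constructor
  · rintro rfl
    rw [add_comm (a + b) b, add_comm a b, add_add_cancel_self]
  · rintro rfl
    rw [add_assoc, add_self_zero, add_zero]

/-- the entries of an element of the algebra are determined by its first column -/
theorem entry_formula {x : Matrix U U ℝ} (hx : x ∈ TwA β) (a b : U) :
    x a b = x (a + b) 0 * sg (β (a + b) b) := by
  unfold TwA at hx
  induction hx using Submodule.span_induction with
  | mem x h =>
    obtain ⟨u, rfl⟩ := h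
    rw [Lm_apply, Lm_col_zero]
    by_cases h : a = u + b
    · rw [if_pos h, if_pos ((add_eq_iff a b u).2 h), one_mul, (add_eq_iff a b u).2 h]
    · rw [if_neg h, if_neg (fun h' => h ((add_eq_iff a b u).1 h')), zero_mul]
  | zero => simp
  | add x z _ _ ihx ihz =>
    rw [Matrix.add_apply, Matrix.add_apply, ihx, ihz, add_mul]
  | smul c x _ ih =>
    rw [Matrix.smul_apply, Matrix.smul_apply, ih, smul_eq_mul, smul_eq_mul, mul_assoc]

theorem mul_Lm_col (x : Matrix U U ℝ) (v z : U) : (x * Lm β v) z 0 = x z v := by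
  rw [Matrix.mul_apply, Finset.sum_eq_single v]
  · rw [Lm_col_zero, if_pos rfl, mul_one]
  · intro c _ hc
    rw [Lm_col_zero, if_neg hc, mul_zero]
  · intro h
    exact absurd (Finset.mem_univ _) h

theorem Lm_mul_col (x : Matrix U U ℝ) (v z : U) :
    (Lm β v * x) z 0 = sg (β v (v + z)) * x (v + z) 0 := by
  rw [Matrix.mul_apply, Finset.sum_eq_single (v + z)]
  · rw [Lm_apply, if_pos (by rw [add_add_cancel_self])]
  · intro c _ hc
    rw [Lm_apply, if_neg, zero_mul]
    intro h
    apply hc
    rw [h, add_add_cancel_self]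
  · intro h
    exact absurd (Finset.mem_univ _) h

/-- comparing first columns of `x L_v` and `L_v x` -/
theorem col_compare {x : Matrix U U ℝ} (hx : x ∈ TwA β) (v w : U) :
    (x * Lm β v) (w + v) 0 = x w 0 * sg (β w v) ∧
      (Lm β v * x) (w + v) 0 = sg (β v w) * x w 0 := by
  have e1 : w + v + v = w := by rw [add_assoc, add_self_zero, add_zero]
  have e2 : v + (w + v) = w := by rw [add_comm w v, add_add_cancel_self]
  constructor
  · rw [mul_Lm_col, entry_formula β hx, e1]
  · rw [Lm_mul_col, e2]

theorem eq_zero_of_col_zero {x : Matrix U U ℝ} (hx : x ∈ TwA β) (h : ∀ w, x w 0 = 0) : x = 0 := by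
  ext a b
  rw [entry_formula β hx, h, zero_mul, Matrix.zero_apply]

/-- the centre of the twisted group algebra consists of scalars -/
theorem eq_smul_one_of_commute (hnd : ∀ w : U, w ≠ 0 → ∃ v, β w v + β v w ≠ 0)
    {x : Matrix U U ℝ} (hx : x ∈ TwA β) (hc : ∀ v, x * Lm β v = Lm β v * x) :
    x = x 0 0 • (1 : Matrix U U ℝ) := by
  have hz : ∀ w : U, w ≠ 0 → x w 0 = 0 := by
    intro w hw
    obtain ⟨v, hv⟩ := hnd w hw
    obtain ⟨h1, h2⟩ := col_compare β hx v w
    rw [hc v, h2] at h1
    have hne : sg (β v w) ≠ sg (β w v) := by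
      intro h
      apply hv
      rw [sg_injective h, add_self_zero]
    have h3 : x w 0 * (sg (β v w) - sg (β w v)) = 0 := by linear_combination h1
    rcases mul_eq_zero.1 h3 with h | h
    · exact h
    · exact absurd (sub_eq_zero.1 h) hne
  ext a b
  rw [entry_formula β hx, Matrix.smul_apply, Matrix.one_apply, smul_eq_mul]
  by_cases hab : a = b
  · rw [if_pos hab, hab, add_self_zero, map_zero, LinearMap.zero_apply, sg_zero]
  · rw [if_neg hab, mul_zero, hz, zero_mul]
    intro h
    apply hab
    have := (add_eq_iff a b 0).1 h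
    rw [zero_add] at this
    exact this

/-- a nonzero element which commutes with all `L_v` up to signs is a multiple of some `L_w` -/
theorem eq_smul_Lm_of_twisted (hnd : ∀ w : U, w ≠ 0 → ∃ v, β w v + β v w ≠ 0)
    {x : Matrix U U ℝ} (hx : x ∈ TwA β) (hx0 : x ≠ 0)
    (ht : ∀ v, ∃ ε : ℝ, x * Lm β v = ε • (Lm β v * x)) :
    ∃ w, x = x w 0 • Lm β w := by
  have hex : ∃ w₀, x w₀ 0 ≠ 0 := by
    by_contra h
    simp only [not_exists, not_not] at h
    exact hx0 (eq_zero_of_col_zero β hx h)
  obtain ⟨w₀, hw₀⟩ := hex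
  have key : ∀ w v : U, x w 0 ≠ 0 → ∀ ε : ℝ, x * Lm β v = ε • (Lm β v * x) →
      ε = sg (β w v + β v w) := by
    intro w v hw ε hε
    obtain ⟨h1, h2⟩ := col_compare β hx v w
    rw [hε, Matrix.smul_apply, h2, smul_eq_mul] at h1
    have h3 : x w 0 * (ε * sg (β v w) - sg (β w v)) = 0 := by linear_combination h1
    rcases mul_eq_zero.1 h3 with h | h
    · exact absurd h hw
    · rw [sg_add]
      have := sg_mul_self (β v w)
      linear_combination (sg (β v w)) * h - ε * this
  have huniq : ∀ w, x w 0 ≠ 0 → w = w₀ := by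
    intro w hw
    by_contra hne
    have hne' : w + w₀ ≠ 0 := by
      intro h
      apply hne
      have := (add_eq_iff w w₀ 0).1 h
      rw [zero_add] at this
      exact this
    obtain ⟨v, hv⟩ := hnd _ hne'
    obtain ⟨ε, hε⟩ := ht v
    have e1 := key w v hw ε hε
    have e2 := key w₀ v hw₀ ε hε
    rw [e1] at e2
    have e3 := sg_injective e2
    apply hv
    simp only [map_add, LinearMap.add_apply]
    have : β w v + β w₀ v + (β v w + β v w₀) = (β w v + β v w) + (β w₀ v + β v w₀) := by ring
    rw [this, e3, add_self_zero]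
  refine ⟨w₀, ?_⟩
  ext a b
  rw [entry_formula β hx, Matrix.smul_apply, Lm_apply, smul_eq_mul]
  by_cases h : a = w₀ + b
  · rw [if_pos h, (add_eq_iff a b w₀).2 h]
  · rw [if_neg h, mul_zero]
    have : x (a + b) 0 = 0 := by
      by_contra h0
      exact h ((add_eq_iff a b w₀).1 (huniq _ h0))
    rw [this, zero_mul]

end

end Cfsg.Agent.Lib.Helper5.Tw
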