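import Mathlib
import Cfsg.Agent.Lib.Helper5.Tw.Tw2

/-!
# Quadratic refinements and intertwiners
-/

set_option autoImplicit false

namespace Cfsg.Agent.Lib.Helper5.Tw

open Matrix

section refine
variable {U : Type*} [AddCommGroup U] [Module (ZMod 2) U] [Module.Finite (ZMod 2) U]

theorem symm_of_alt (c : LinearMap.BilinForm (ZMod 2) U) (hc : ∀ u, c u u = 0) (u v : U) :
    c u v = c v u := by
  have h := hc (u + v)
  simp only [map_add, LinearMap.add_apply, hc, zero_add, add_zero] at h
  have h2 := add_self_zero (c v u)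
  linear_combination h - h2

/-- an alternating bilinear form in characteristic two is the polar form of a quadratic function -/
theorem exists_refinement (c : LinearMap.BilinForm (ZMod 2) U) (hc : ∀ u, c u u = 0) :
    ∃ f : U → ZMod 2, ∀ u v, f (u + v) = f u + f v + c u v := by
  classical
  let b := Module.finBasis (ZMod 2) U
  let B : LinearMap.BilinForm (ZMod 2) U :=
    b.constr (S := ZMod 2) fun i =>
      b.constr (S := ZMod 2) fun j => if i < j then c (b i) (b j) else 0
  have hB : ∀ i j, B (b i) (b j) = if i < j then c (b i) (b j) else 0 := by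
    intro i j
    simp only [B, Module.Basis.constr_basis]
  have hsum : B + LinearMap.flip B = c := by
    apply LinearMap.ext_basis b b
    intro i j
    rw [LinearMap.add_apply, LinearMap.add_apply, LinearMap.flip_apply, hB, hB]
    rcases lt_trichotomy i j with h | h | h
    · rw [if_pos h, if_neg (not_lt.2 h.le), add_zero]
    · rw [h, if_neg (lt_irrefl j), add_zero, hc]
    · rw [if_neg (not_lt.2 h.le), if_pos h, zero_add]
      exact symm_of_alt c hc _ _
  refine ⟨fun u => B u u, ?_⟩
  intro u v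
  have h1 : c u v = B u v + B v u := by
    rw [← hsum, LinearMap.add_apply, LinearMap.add_apply, LinearMap.flip_apply]
  show B (u + v) (u + v) = B u u + B v v + c u v
  rw [h1]
  simp only [map_add, LinearMap.add_apply]
  ring

end refine

section inter
variable {U : Type*} [AddCommGroup U] [Module (ZMod 2) U] [Fintype U] [DecidableEq U]
  (β : LinearMap.BilinForm (ZMod 2) U)

/-- `f` is a sign correction for the isometry `g` -/
def IsTwist (g : U ≃ₗ[ZMod 2] U) (f : U → ZMod 2) : Prop :=
  ∀ u v, f (u + v) = f u + f v + β u v + β (g u) (g v)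

theorem exists_twist (g : U ≃ₗ[ZMod 2] U) (hg : ∀ u, β (g u) (g u) = β u u) :
    ∃ f, IsTwist β g f := by
  haveI : Module.Finite (ZMod 2) U := Module.Finite.of_finite
  let c : LinearMap.BilinForm (ZMod 2) U := β + β.compl₁₂ g.toLinearMap g.toLinearMap
  have hc : ∀ u, c u u = 0 := by
    intro u
    show β u u + β (g u) (g u) = 0
    rw [hg, add_self_zero]
  obtain ⟨f, hf⟩ := exists_refinement c hc
  refine ⟨f, ?_⟩
  intro u v
  have hcuv : c u v = β u v + β (g u) (g v) := by
    simp [c, LinearMap.compl₁₂_apply]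
  rw [hf u v, hcuv]
  ring

theorem IsTwist.zero {g : U ≃ₗ[ZMod 2] U} {f : U → ZMod 2} (h : IsTwist β g f) : f 0 = 0 := by
  have := h 0 0
  simp only [add_zero, map_zero, LinearMap.zero_apply] at this
  have h2 := add_self_zero (f 0)
  rw [h2] at this
  exact this

/-- the twisted images of the `L_u` -/
noncomputable def phi (g : U ≃ₗ[ZMod 2] U) (f : U → ZMod 2) (u : U) : Matrix U U ℝ :=
  sg (f u) • Lm β (g u)

theorem phi_mul {g : U ≃ₗ[ZMod 2] U} {f : U → ZMod 2} (h : IsTwist β g f) (u v : U) :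
    phi β g f u * phi β g f v = sg (β u v) • phi β g f (u + v) := by
  unfold phi
  rw [Matrix.smul_mul, Matrix.mul_smul, Lm_mul, smul_smul, smul_smul, smul_smul, map_add, h u v]
  congr 1
  rw [sg_add, sg_add, sg_add]
  have := sg_mul_self (β u v)
  linear_combination (-(sg (f u) * sg (f v) * sg (β (g u) (g v)))) * this

/-- the averaged intertwiner -/
noncomputable def Xi (g : U ≃ₗ[ZMod 2] U) (f : U → ZMod 2) (y : Matrix U U ℝ) : Matrix U U ℝ :=
  ∑ u, phi β g f u * y * (Lm β u)ᵀ

theorem Xi_mem (g : U ≃ₗ[ZMod 2] U) (f : U → ZMod 2) {y : Matrix U U ℝ} (hy : y ∈ TwA β) :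
    Xi β g f y ∈ TwA β := by
  apply sum_mem_TwA
  intro u _
  apply mul_mem_TwA β (mul_mem_TwA β _ hy) (transpose_mem_TwA β (Lm_mem β u))
  exact Submodule.smul_mem _ _ (Lm_mem β _)

theorem Xi_intertwine {g : U ≃ₗ[ZMod 2] U} {f : U → ZMod 2} (h : IsTwist β g f)
    (y : Matrix U U ℝ) (v : U) :
    phi β g f v * Xi β g f y = Xi β g f y * Lm β v := by
  unfold Xi
  rw [Finset.mul_sum, Finset.sum_mul]
  rw [← Equiv.sum_comp (Equiv.addRight v)
    (fun u => phi β g f v * (phi β g f u * y * (Lm β u)ᵀ))]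
  apply Finset.sum_congr rfl
  intro u _
  simp only [Equiv.coe_addRight]
  rw [Matrix.mul_assoc (phi β g f u * y), Lm_transpose_mul_Lm, ← Matrix.mul_assoc,
    ← Matrix.mul_assoc, phi_mul β h]
  have e : v + (u + v) = u := by rw [add_comm u v, add_add_cancel_self]
  rw [e, Matrix.smul_mul, Matrix.smul_mul, Matrix.mul_smul]

/-- the bimultiplicative character sum -/
theorem char_sum (hnd : ∀ w : U, w ≠ 0 → ∃ v, β w v + β v w ≠ 0) (u : U) :
    ∑ w : U, sg (β w u + β u w) = if u = 0 then (Fintype.card U : ℝ) else 0 := by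
  by_cases hu : u = 0
  · rw [if_pos hu, hu]
    simp [sg_zero]
  · rw [if_neg hu]
    obtain ⟨v, hv⟩ := hnd u hu
    have hv1 : β u v + β v u = 1 := by
      rcases zmod2_eq_zero_or_one (β u v + β v u) with h | h
      · exact absurd h hv
      · exact h
    have h1 := Equiv.sum_comp (Equiv.addRight v) (fun w => sg (β w u + β u w))
    simp only [Equiv.coe_addRight] at h1
    have h2 : ∀ w : U, sg (β (w + v) u + β u (w + v)) = - sg (β w u + β u w) := by
      intro w
      simp only [map_add, LinearMap.add_apply]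
      have : β w u + β v u + (β u w + β u v) = (β w u + β u w) + (β u v + β v u) := by ring
      rw [this, hv1, sg_add, sg_one]
      ring
    simp only [h2, Finset.sum_neg_distrib] at h1
    linarith

theorem Lm_conj_transpose (u w : U) :
    Lm β w * (Lm β u)ᵀ * (Lm β w)ᵀ = sg (β w u + β u w) • (Lm β u)ᵀ := by
  rw [Lm_transpose β u, Matrix.mul_smul, Matrix.smul_mul, Lm_comm β w u, Matrix.smul_mul,
    Matrix.mul_assoc, Lm_mul_transpose, Matrix.mul_one, smul_smul, smul_smul, mul_comm]

/-- some `Xi (L_w)` does not vanish -/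
theorem exists_Xi_ne_zero [Nonempty U] (hnd : ∀ w : U, w ≠ 0 → ∃ v, β w v + β v w ≠ 0)
    {g : U ≃ₗ[ZMod 2] U} {f : U → ZMod 2} (h : IsTwist β g f) :
    ∃ w, Xi β g f (Lm β w) ≠ 0 := by
  by_contra hall
  simp only [not_exists, not_not] at hall
  have h1 : ∑ w : U, Xi β g f (Lm β w) * (Lm β w)ᵀ = (Fintype.card U : ℝ) • (1 : Matrix U U ℝ) := by
    unfold Xi
    simp only [Finset.sum_mul]
    rw [Finset.sum_comm]
    have h2 : ∀ u : U, ∑ w : U, phi β g f u * Lm β w * (Lm β u)ᵀ * (Lm β w)ᵀ =
        (∑ w : U, sg (β w u + β u w)) • (phi β g f u * (Lm β u)ᵀ) := by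
      intro u
      rw [Finset.sum_smul]
      apply Finset.sum_congr rfl
      intro w _
      rw [Matrix.mul_assoc (phi β g f u), Matrix.mul_assoc (phi β g f u), Lm_conj_transpose,
        Matrix.mul_smul]
    simp only [h2, char_sum β hnd]
    rw [Finset.sum_eq_single 0]
    · rw [if_pos rfl]
      unfold phi
      rw [h.zero, sg_zero, one_smul, map_zero, Lm_zero, Matrix.transpose_one, Matrix.mul_one]
    · intro u _ hu
      rw [if_neg hu, zero_smul]
    · intro h0
      exact absurd (Finset.mem_univ _) h0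
  simp only [hall, Matrix.zero_mul, Finset.sum_const_zero] at h1
  have h3 := congrFun (congrFun h1 (Classical.arbitrary U)) (Classical.arbitrary U)
  simp only [Matrix.zero_apply, Matrix.smul_apply, Matrix.one_apply_eq, smul_eq_mul, mul_one] at h3
  have : (Fintype.card U : ℝ) ≠ 0 := by
    exact_mod_cast Fintype.card_ne_zero
  exact this h3.symm

/-- normalised intertwiners exist -/
theorem exists_intertwiner [Nonempty U] (hnd : ∀ w : U, w ≠ 0 → ∃ v, β w v + β v w ≠ 0)
    (g : U ≃ₗ[ZMod 2] U) (hg : ∀ u, β (g u) (g u) = β u u) :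
    ∃ Y : Matrix U U ℝ, Y ∈ TwA β ∧ Yᵀ * Y = 1 ∧
      ∀ v, ∃ ε : ℝ, (ε = 1 ∨ ε = -1) ∧ Y * Lm β v = ε • (Lm β (g v) * Y) := by
  obtain ⟨f, hf⟩ := exists_twist β g hg
  obtain ⟨w, hw⟩ := exists_Xi_ne_zero β hnd hf
  set X := Xi β g f (Lm β w) with hX
  have hXA : X ∈ TwA β := Xi_mem β g f (Lm_mem β w)
  have hint : ∀ v, phi β g f v * X = X * Lm β v := fun v => Xi_intertwine β hf _ v
  -- the transposed relation
  have hphiT : ∀ v, (phi β g f v)ᵀ = sg (β v v) • phi β g f v := by
    intro v
    unfold phi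
    rw [Matrix.transpose_smul, Lm_transpose, hg, smul_smul, smul_smul, mul_comm]
  have hintT : ∀ v, Xᵀ * phi β g f v = Lm β v * Xᵀ := by
    intro v
    have h1 := congrArg Matrix.transpose (hint v)
    rw [Matrix.transpose_mul, Matrix.transpose_mul, hphiT, Lm_transpose, Matrix.mul_smul,
      Matrix.smul_mul] at h1
    have h2 := congrArg (fun M => sg (β v v) • M) h1
    simp only [smul_smul, sg_mul_self, one_smul] at h2
    exact h2
  have hcomm : ∀ v, (Xᵀ * X) * Lm β v = Lm β v * (Xᵀ * X) := by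
    intro v
    rw [Matrix.mul_assoc, ← hint v, ← Matrix.mul_assoc, hintT v, Matrix.mul_assoc]
  have hXXA : Xᵀ * X ∈ TwA β := mul_mem_TwA β (transpose_mem_TwA β hXA) hXA
  have hsc := eq_smul_one_of_commute β hnd hXXA hcomm
  set c := (Xᵀ * X) 0 0 with hc
  have hc0 : c ≠ 0 := by
    intro h0
    rw [h0, zero_smul] at hsc
    have : Xᴴ * X = 0 := by
      rw [Matrix.conjTranspose_eq_transpose_of_trivial]
      exact hsc
    exact hw (Matrix.conjTranspose_mul_self_eq_zero.1 this)
  have hcpos : 0 < c := by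
    have hnn : 0 ≤ c := by
      rw [hc, Matrix.mul_apply]
      apply Finset.sum_nonneg
      intro j _
      rw [Matrix.transpose_apply]
      exact mul_self_nonneg _
    exact lt_of_le_of_ne hnn (Ne.symm hc0)
  have hs : Real.sqrt c ≠ 0 := (Real.sqrt_pos.2 hcpos).ne'
  have hss : Real.sqrt c * Real.sqrt c = c := Real.mul_self_sqrt hcpos.le
  refine ⟨(Real.sqrt c)⁻¹ • X, Submodule.smul_mem _ _ hXA, ?_, ?_⟩
  · rw [Matrix.transpose_smul, Matrix.smul_mul, Matrix.mul_smul, smul_smul, hsc, smul_smul]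
    have : (Real.sqrt c)⁻¹ * (Real.sqrt c)⁻¹ * c = 1 := by
      calc (Real.sqrt c)⁻¹ * (Real.sqrt c)⁻¹ * c
          = (Real.sqrt c)⁻¹ * (Real.sqrt c)⁻¹ * (Real.sqrt c * Real.sqrt c) := by rw [hss]
        _ = 1 := by field_simp
    rw [this, one_smul]
  · intro v
    refine ⟨sg (f v), sg_eq_or _, ?_⟩
    rw [Matrix.smul_mul, ← hint v, Matrix.mul_smul]
    unfold phi
    rw [Matrix.smul_mul, smul_comm]

end inter

end Cfsg.Agent.Lib.Helper5.Tw
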