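import Mathlib
import Cfsg.Agent.Lib.Helper5.Tw.Tw3

/-!
# The group of normalised intertwiners
-/

set_option autoImplicit false

namespace Cfsg.Agent.Lib.Helper5.Tw

open Matrix

section
variable {U : Type*} [AddCommGroup U] [Module (ZMod 2) U] [Fintype U] [DecidableEq U]
  (β : LinearMap.BilinForm (ZMod 2) U)

/-- the defining property of the elements of the big group -/
def IsNorm (Γ : Subgroup (U ≃ₗ[ZMod 2] U)) (x : Matrix U U ℝ) (g : U ≃ₗ[ZMod 2] U) : Prop :=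
  g ∈ Γ ∧ x ∈ TwA β ∧ xᵀ * x = 1 ∧
    ∀ v, ∃ ε : ℝ, (ε = 1 ∨ ε = -1) ∧ x * Lm β v = ε • (Lm β (g v) * x)

theorem isNorm_one (Γ : Subgroup (U ≃ₗ[ZMod 2] U)) : IsNorm β Γ 1 1 := by
  refine ⟨one_mem _, one_mem_TwA β, by simp, ?_⟩
  intro v
  refine ⟨1, Or.inl rfl, ?_⟩
  rw [one_smul, Matrix.one_mul, Matrix.mul_one]
  rfl

theorem isNorm_mul (Γ : Subgroup (U ≃ₗ[ZMod 2] U)) {x y : Matrix U U ℝ} {g h : U ≃ₗ[ZMod 2] U}
    (hx : IsNorm β Γ x g) (hy : IsNorm β Γ y h) : IsNorm β Γ (x * y) (g * h) := by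
  obtain ⟨hg, hxA, hxo, hxr⟩ := hx
  obtain ⟨hh, hyA, hyo, hyr⟩ := hy
  refine ⟨mul_mem hg hh, mul_mem_TwA β hxA hyA, ?_, ?_⟩
  · rw [Matrix.transpose_mul, Matrix.mul_assoc, ← Matrix.mul_assoc xᵀ, hxo, Matrix.one_mul, hyo]
  · intro v
    obtain ⟨ε₁, hε₁, h1⟩ := hyr v
    obtain ⟨ε₂, hε₂, h2⟩ := hxr (h v)
    refine ⟨ε₂ * ε₁, ?_, ?_⟩
    · rcases hε₁ with rfl | rfl <;> rcases hε₂ with rfl | rfl <;> norm_num
    · rw [Matrix.mul_assoc, h1, Matrix.mul_smul, ← Matrix.mul_assoc, h2, Matrix.smul_mul,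
        smul_smul, Matrix.mul_assoc, mul_comm]
      rfl

/-- for orthogonal square matrices the transpose is a two-sided inverse -/
theorem mul_transpose_of_transpose_mul {x : Matrix U U ℝ} (h : xᵀ * x = 1) : x * xᵀ = 1 :=
  mul_eq_one_comm.1 h

theorem isNorm_inv (Γ : Subgroup (U ≃ₗ[ZMod 2] U)) {x : Matrix U U ℝ} {g : U ≃ₗ[ZMod 2] U}
    (hx : IsNorm β Γ x g) : IsNorm β Γ xᵀ g⁻¹ := by
  obtain ⟨hg, hxA, hxo, hxr⟩ := hx
  have hxo' := mul_transpose_of_transpose_mul hxo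
  refine ⟨inv_mem hg, transpose_mem_TwA β hxA, ?_, ?_⟩
  · rw [Matrix.transpose_transpose]
    exact hxo'
  · intro v
    obtain ⟨ε, hε, h1⟩ := hxr (g⁻¹ v)
    have hgv : g (g⁻¹ v) = v := by
      show (g * g⁻¹) v = v
      rw [mul_inv_cancel]
      rfl
    rw [hgv] at h1
    refine ⟨ε, hε, ?_⟩
    have hεε : ε * ε = 1 := by rcases hε with rfl | rfl <;> norm_num
    -- `L_v x = ε • x L_{g⁻¹ v}`
    have h2 : Lm β v * x = ε • (x * Lm β (g⁻¹ v)) := by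
      rw [h1, smul_smul, hεε, one_smul]
    calc xᵀ * Lm β v = xᵀ * (Lm β v * x) * xᵀ := by
          rw [Matrix.mul_assoc, Matrix.mul_assoc, hxo', Matrix.mul_one]
      _ = ε • (Lm β (g⁻¹ v) * xᵀ) := by
          rw [h2, Matrix.mul_smul, Matrix.smul_mul, ← Matrix.mul_assoc xᵀ, hxo, Matrix.one_mul]

/-- the big group of normalised intertwiners -/
def Rbig (Γ : Subgroup (U ≃ₗ[ZMod 2] U)) :
    Subgroup ((Matrix U U ℝ)ˣ × (U ≃ₗ[ZMod 2] U)) where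
  carrier := {r | IsNorm β Γ (r.1 : Matrix U U ℝ) r.2}
  one_mem' := isNorm_one β Γ
  mul_mem' := by
    intro a b ha hb
    exact isNorm_mul β Γ ha hb
  inv_mem' := by
    intro a ha
    have h := isNorm_inv β Γ ha
    have hinv : ((a.1⁻¹ : (Matrix U U ℝ)ˣ) : Matrix U U ℝ) = (a.1 : Matrix U U ℝ)ᵀ := by
      exact Units.inv_eq_of_mul_eq_one_left ha.2.2.1
    show IsNorm β Γ ((a.1⁻¹ : (Matrix U U ℝ)ˣ) : Matrix U U ℝ) a.2⁻¹
    rw [hinv]
    exact h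

theorem mem_Rbig (Γ : Subgroup (U ≃ₗ[ZMod 2] U)) (r : (Matrix U U ℝ)ˣ × (U ≃ₗ[ZMod 2] U)) :
    r ∈ Rbig β Γ ↔ IsNorm β Γ (r.1 : Matrix U U ℝ) r.2 := Iff.rfl

/-- the unit `± L_w` -/
noncomputable def LmU (a : ZMod 2) (w : U) : (Matrix U U ℝ)ˣ where
  val := sg a • Lm β w
  inv := sg a • (Lm β w)ᵀ
  val_inv := by
    rw [Matrix.smul_mul, Matrix.mul_smul, smul_smul, sg_mul_self, one_smul, Lm_mul_transpose]
  inv_val := by
    rw [Matrix.smul_mul, Matrix.mul_smul, smul_smul, sg_mul_self, one_smul, Lm_transpose_mul]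

theorem LmU_val (a : ZMod 2) (w : U) : ((LmU β a w : (Matrix U U ℝ)ˣ) : Matrix U U ℝ) =
    sg a • Lm β w := rfl

theorem LmU_mul (a a' : ZMod 2) (w w' : U) :
    LmU β a w * LmU β a' w' = LmU β (a + a' + β w w') (w + w') := by
  apply Units.ext
  rw [Units.val_mul, LmU_val, LmU_val, LmU_val, Matrix.smul_mul, Matrix.mul_smul, Lm_mul,
    smul_smul, smul_smul, sg_add, sg_add]

theorem LmU_zero : LmU β 0 0 = 1 := by
  apply Units.ext
  rw [LmU_val, sg_zero, one_smul, Lm_zero, Units.val_one]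

theorem LmU_injective {a a' : ZMod 2} {w w' : U} (h : LmU β a w = LmU β a' w') :
    a = a' ∧ w = w' := by
  have h1 := congrArg (fun x : (Matrix U U ℝ)ˣ => (x : Matrix U U ℝ) w 0) h
  simp only [LmU_val, Matrix.smul_apply, Lm_col_zero, smul_eq_mul, if_true, mul_one] at h1
  by_cases hw : w = w'
  · subst hw
    rw [if_pos rfl, mul_one] at h1
    exact ⟨sg_injective h1, rfl⟩
  · rw [if_neg hw, mul_zero] at h1
    exact absurd h1 (sg_ne_zero a)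

theorem isNorm_LmU (Γ : Subgroup (U ≃ₗ[ZMod 2] U)) (a : ZMod 2) (w : U) :
    IsNorm β Γ (sg a • Lm β w) 1 := by
  refine ⟨one_mem _, Submodule.smul_mem _ _ (Lm_mem β w), ?_, ?_⟩
  · rw [Matrix.transpose_smul, Matrix.smul_mul, Matrix.mul_smul, smul_smul, sg_mul_self, one_smul,
      Lm_transpose_mul]
  · intro v
    refine ⟨sg (β w v + β v w), sg_eq_or _, ?_⟩
    rw [Matrix.smul_mul, Lm_comm β w v, Matrix.mul_smul, smul_comm]
    rfl

/-- kernel elements are of the form `± L_w` -/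
theorem exists_LmU_of_isNorm_one [Nonempty U]
    (hnd : ∀ w : U, w ≠ 0 → ∃ v, β w v + β v w ≠ 0) (Γ : Subgroup (U ≃ₗ[ZMod 2] U))
    (x : (Matrix U U ℝ)ˣ) (hx : IsNorm β Γ (x : Matrix U U ℝ) 1) : ∃ a w, x = LmU β a w := by
  obtain ⟨-, hxA, hxo, hxr⟩ := hx
  have hx0 : (x : Matrix U U ℝ) ≠ 0 := x.ne_zero
  obtain ⟨w, hw⟩ := eq_smul_Lm_of_twisted β hnd hxA hx0 (fun v => by
    obtain ⟨ε, -, h⟩ := hxr v
    exact ⟨ε, h⟩)
  set c := (x : Matrix U U ℝ) w 0 with hc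
  have hcc : c * c = 1 := by
    rw [hw, Matrix.transpose_smul, Matrix.smul_mul, Matrix.mul_smul, smul_smul,
      Lm_transpose_mul] at hxo
    have := congrFun (congrFun hxo w) w
    simpa using this
  have hc1 : c = 1 ∨ c = -1 := mul_self_eq_one_iff.1 hcc
  rcases hc1 with h | h
  · refine ⟨0, w, ?_⟩
    apply Units.ext
    rw [LmU_val, sg_zero, hw, h]
  · refine ⟨1, w, ?_⟩
    apply Units.ext
    rw [LmU_val, sg_one, hw, h]

end

end Cfsg.Agent.Lib.Helper5.Tw
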