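import Mathlib
import Cfsg.Prelude.Def_Transfer
import Cfsg.Agent.Lib.Helper5.Tw.Tw4
import Cfsg.Agent.Lib.Lead.Frattini
import Cfsg.Agent.Lib.Lead.Frattini2

/-!
# The extraspecial kernel and its properties
-/

set_option autoImplicit false

namespace Cfsg.Agent.Lib.Helper5.Tw

open Matrix
open scoped commutatorElement

section
variable {U : Type*} [AddCommGroup U] [Module (ZMod 2) U] [Fintype U] [DecidableEq U]
  (β : LinearMap.BilinForm (ZMod 2) U) (Γ : Subgroup (U ≃ₗ[ZMod 2] U))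

/-- projection of the big group to the isometry group -/
def p2 : ↥(Rbig β Γ) →* ↥Γ where
  toFun r := ⟨r.1.2, r.2.1⟩
  map_one' := rfl
  map_mul' _ _ := rfl

theorem p2_coe (r : ↥(Rbig β Γ)) : ((p2 β Γ r : ↥Γ) : U ≃ₗ[ZMod 2] U) = r.1.2 := rfl

theorem p2_surjective [Nonempty U] (hnd : ∀ w : U, w ≠ 0 → ∃ v, β w v + β v w ≠ 0)
    (hΓ : ∀ g ∈ Γ, ∀ u, β (g u) (g u) = β u u) : Function.Surjective (p2 β Γ) := by
  rintro ⟨g, hg⟩
  obtain ⟨Y, hYA, hYo, hYr⟩ := exists_intertwiner β hnd g (hΓ g hg)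
  let x : (Matrix U U ℝ)ˣ := ⟨Y, Yᵀ, mul_transpose_of_transpose_mul hYo, hYo⟩
  exact ⟨⟨(x, g), ⟨hg, hYA, hYo, hYr⟩⟩, rfl⟩

/-- the elements `± L_w` of the big group -/
noncomputable def qelR (a : ZMod 2) (w : U) : ↥(Rbig β Γ) :=
  ⟨(LmU β a w, 1), isNorm_LmU β Γ a w⟩

theorem qelR_mul (a a' : ZMod 2) (w w' : U) :
    qelR β Γ a w * qelR β Γ a' w' = qelR β Γ (a + a' + β w w') (w + w') := by
  apply Subtype.ext
  show ((LmU β a w, (1 : U ≃ₗ[ZMod 2] U)) * (LmU β a' w', 1) : (Matrix U U ℝ)ˣ × _) = _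
  rw [Prod.mk_mul_mk, LmU_mul, mul_one]
  rfl

theorem qelR_zero : qelR β Γ 0 0 = 1 := by
  apply Subtype.ext
  show ((LmU β 0 0, (1 : U ≃ₗ[ZMod 2] U)) : (Matrix U U ℝ)ˣ × _) = 1
  rw [LmU_zero]
  rfl

theorem qelR_mem_ker (a : ZMod 2) (w : U) : qelR β Γ a w ∈ (p2 β Γ).ker := by
  rw [MonoidHom.mem_ker]
  rfl

theorem qelR_injective {a a' : ZMod 2} {w w' : U} (h : qelR β Γ a w = qelR β Γ a' w') :
    a = a' ∧ w = w' := by
  have h1 := congrArg (fun r : ↥(Rbig β Γ) => r.1.1) h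
  exact LmU_injective β h1

theorem exists_qelR_of_mem_ker [Nonempty U] (hnd : ∀ w : U, w ≠ 0 → ∃ v, β w v + β v w ≠ 0)
    (r : ↥(Rbig β Γ)) (hr : r ∈ (p2 β Γ).ker) : ∃ a w, r = qelR β Γ a w := by
  rw [MonoidHom.mem_ker] at hr
  have h1 : r.1.2 = 1 := congrArg Subtype.val hr
  have h2 : IsNorm β Γ (r.1.1 : Matrix U U ℝ) 1 := by
    have := r.2
    rw [mem_Rbig, h1] at this
    exact this
  obtain ⟨a, w, haw⟩ := exists_LmU_of_isNorm_one β hnd Γ r.1.1 h2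
  refine ⟨a, w, ?_⟩
  apply Subtype.ext
  apply Prod.ext
  · exact haw
  · exact h1

/-- the parametrisation of the kernel -/
noncomputable def qS (p : ZMod 2 × U) : ↥(p2 β Γ).ker := ⟨qelR β Γ p.1 p.2, qelR_mem_ker β Γ p.1 p.2⟩

theorem qS_mul (p p' : ZMod 2 × U) :
    qS β Γ p * qS β Γ p' = qS β Γ (p.1 + p'.1 + β p.2 p'.2, p.2 + p'.2) := by
  apply Subtype.ext
  exact qelR_mul β Γ p.1 p'.1 p.2 p'.2

theorem qS_zero : qS β Γ (0, 0) = 1 := by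
  apply Subtype.ext
  exact qelR_zero β Γ

theorem qS_injective : Function.Injective (qS β Γ) := by
  intro p p' h
  have h1 := congrArg Subtype.val h
  obtain ⟨e1, e2⟩ := qelR_injective β Γ h1
  exact Prod.ext e1 e2

theorem qS_surjective [Nonempty U] (hnd : ∀ w : U, w ≠ 0 → ∃ v, β w v + β v w ≠ 0) :
    Function.Surjective (qS β Γ) := by
  rintro ⟨r, hr⟩
  obtain ⟨a, w, h⟩ := exists_qelR_of_mem_ker β Γ hnd r hr
  exact ⟨(a, w), Subtype.ext h.symm⟩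

theorem qS_eq_one_iff (p : ZMod 2 × U) : qS β Γ p = 1 ↔ p = (0, 0) := by
  rw [← qS_zero β Γ]
  exact (qS_injective β Γ).eq_iff

theorem card_ker [Nonempty U] (hnd : ∀ w : U, w ≠ 0 → ∃ v, β w v + β v w ≠ 0) :
    Nat.card ↥(p2 β Γ).ker = 2 * Fintype.card U := by
  rw [← Nat.card_congr (Equiv.ofBijective (qS β Γ) ⟨qS_injective β Γ, qS_surjective β Γ hnd⟩),
    Nat.card_prod, Nat.card_zmod, Nat.card_eq_fintype_card]

/-- the underlying vector of a kernel element -/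
noncomputable def chi0 [Nonempty U] (hnd : ∀ w : U, w ≠ 0 → ∃ v, β w v + β v w ≠ 0)
    (a : ↥(p2 β Γ).ker) : U :=
  ((Equiv.ofBijective (qS β Γ) ⟨qS_injective β Γ, qS_surjective β Γ hnd⟩).symm a).2

theorem chi0_qS [Nonempty U] (hnd : ∀ w : U, w ≠ 0 → ∃ v, β w v + β v w ≠ 0)
    (p : ZMod 2 × U) : chi0 β Γ hnd (qS β Γ p) = p.2 := by
  unfold chi0
  have : (Equiv.ofBijective (qS β Γ) ⟨qS_injective β Γ, qS_surjective β Γ hnd⟩).symm (qS β Γ p) = p :=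
    (Equiv.ofBijective (qS β Γ) ⟨qS_injective β Γ, qS_surjective β Γ hnd⟩).symm_apply_apply p
  rw [this]

/-- the homomorphism from the kernel onto the vector space -/
noncomputable def chi [Nonempty U] (hnd : ∀ w : U, w ≠ 0 → ∃ v, β w v + β v w ≠ 0) :
    ↥(p2 β Γ).ker →* Multiplicative U where
  toFun a := Multiplicative.ofAdd (chi0 β Γ hnd a)
  map_one' := by
    rw [← qS_zero β Γ, chi0_qS]
    rfl
  map_mul' a b := by
    obtain ⟨p, rfl⟩ := qS_surjective β Γ hnd a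
    obtain ⟨p', rfl⟩ := qS_surjective β Γ hnd b
    rw [qS_mul, chi0_qS, chi0_qS, chi0_qS]
    rfl

theorem chi_qS [Nonempty U] (hnd : ∀ w : U, w ≠ 0 → ∃ v, β w v + β v w ≠ 0)
    (p : ZMod 2 × U) : chi β Γ hnd (qS β Γ p) = Multiplicative.ofAdd p.2 := by
  show Multiplicative.ofAdd (chi0 β Γ hnd (qS β Γ p)) = _
  rw [chi0_qS]

theorem chi_surjective [Nonempty U] (hnd : ∀ w : U, w ≠ 0 → ∃ v, β w v + β v w ≠ 0) :
    Function.Surjective (chi β Γ hnd) := by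
  intro u
  exact ⟨qS β Γ (0, Multiplicative.toAdd u), chi_qS β Γ hnd _⟩

theorem mem_ker_chi_iff [Nonempty U] (hnd : ∀ w : U, w ≠ 0 → ∃ v, β w v + β v w ≠ 0)
    (p : ZMod 2 × U) : qS β Γ p ∈ (chi β Γ hnd).ker ↔ p.2 = 0 := by
  rw [MonoidHom.mem_ker, chi_qS]
  exact Iff.rfl

theorem mem_center_iff [Nonempty U] (hnd : ∀ w : U, w ≠ 0 → ∃ v, β w v + β v w ≠ 0)
    (p : ZMod 2 × U) : qS β Γ p ∈ Subgroup.center ↥(p2 β Γ).ker ↔ p.2 = 0 := by
  rw [Subgroup.mem_center_iff]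
  constructor
  · intro h
    by_contra hne
    obtain ⟨v, hv⟩ := hnd p.2 hne
    have h1 := h (qS β Γ (0, v))
    rw [qS_mul, qS_mul] at h1
    have h2 := (Prod.ext_iff.1 (qS_injective β Γ h1)).1
    simp only [zero_add, add_zero] at h2
    apply hv
    have h3 : β v p.2 = β p.2 v := by linear_combination h2
    rw [h3, add_self_zero]
  · intro h b
    obtain ⟨p', rfl⟩ := qS_surjective β Γ hnd b
    rw [qS_mul, qS_mul, h]
    simp only [map_zero, LinearMap.zero_apply, add_zero, zero_add]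
    rw [add_comm p'.1 p.1]

theorem ker_chi_eq_center [Nonempty U] (hnd : ∀ w : U, w ≠ 0 → ∃ v, β w v + β v w ≠ 0) :
    (chi β Γ hnd).ker = Subgroup.center ↥(p2 β Γ).ker := by
  ext a
  obtain ⟨p, rfl⟩ := qS_surjective β Γ hnd a
  rw [mem_ker_chi_iff, mem_center_iff β Γ hnd]

theorem qS_mul_self (p : ZMod 2 × U) : qS β Γ p * qS β Γ p = qS β Γ (β p.2 p.2, 0) := by
  rw [qS_mul, add_self_zero, add_self_zero, zero_add]

theorem mul_self_eq_one_iff' [Nonempty U] (hnd : ∀ w : U, w ≠ 0 → ∃ v, β w v + β v w ≠ 0)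
    (a : ↥(p2 β Γ).ker) :
    a * a = 1 ↔ β (Multiplicative.toAdd (chi β Γ hnd a)) (Multiplicative.toAdd (chi β Γ hnd a)) = 0 := by
  obtain ⟨p, rfl⟩ := qS_surjective β Γ hnd a
  rw [qS_mul_self, qS_eq_one_iff, chi_qS]
  constructor
  · intro h
    exact (Prod.ext_iff.1 h).1
  · intro h
    exact Prod.ext h rfl

/-- conjugation by an element of the big group acts on the kernel through the isometry -/
theorem chi_conj [Nonempty U] (hnd : ∀ w : U, w ≠ 0 → ∃ v, β w v + β v w ≠ 0)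
    (r : ↥(Rbig β Γ)) (a : ↥(p2 β Γ).ker)
    (h : r * (a : ↥(Rbig β Γ)) * r⁻¹ ∈ (p2 β Γ).ker) :
    chi β Γ hnd ⟨r * (a : ↥(Rbig β Γ)) * r⁻¹, h⟩ =
      Multiplicative.ofAdd (r.1.2 (Multiplicative.toAdd (chi β Γ hnd a))) := by
  obtain ⟨p, rfl⟩ := qS_surjective β Γ hnd a
  obtain ⟨p', hp'⟩ := qS_surjective β Γ hnd ⟨r * (qS β Γ p : ↥(Rbig β Γ)) * r⁻¹, h⟩
  rw [← hp', chi_qS, chi_qS]
  congr 1
  -- compare first components
  have h1 := congrArg (fun t : ↥(p2 β Γ).ker => (t : ↥(Rbig β Γ)).1.1) hp'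
  have h2 : LmU β p'.1 p'.2 = r.1.1 * LmU β p.1 p.2 * (r.1.1)⁻¹ := h1
  obtain ⟨ε, hε, hr⟩ := r.2.2.2.2 p.2
  obtain ⟨e, he⟩ : ∃ e : ZMod 2, sg e = ε := by
    rcases hε with rfl | rfl
    · exact ⟨0, sg_zero⟩
    · exact ⟨1, sg_one⟩
  have h3 : r.1.1 * LmU β p.1 p.2 * (r.1.1)⁻¹ = LmU β (p.1 + e) (r.1.2 p.2) := by
    rw [mul_inv_eq_iff_eq_mul]
    apply Units.ext
    rw [Units.val_mul, Units.val_mul, LmU_val, LmU_val, Matrix.mul_smul, hr, Matrix.smul_mul,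
      smul_smul, sg_add, he]
  rw [h3] at h2
  exact (LmU_injective β h2).2

end

end Cfsg.Agent.Lib.Helper5.Tw
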