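import Mathlib
import Cfsg.Agent.Lib.Helper5.Tw.Tw5

/-!
# The kernel is extraspecial; the generic existence theorem
-/

set_option autoImplicit false

namespace Cfsg.Agent.Lib.Helper5.Tw

open Matrix
open scoped commutatorElement

section
variable {U : Type*} [AddCommGroup U] [Module (ZMod 2) U] [Fintype U] [DecidableEq U]
  (β : LinearMap.BilinForm (ZMod 2) U) (Γ : Subgroup (U ≃ₗ[ZMod 2] U))

theorem qS_comm (p p' : ZMod 2 × U) :
    qS β Γ p * qS β Γ p' = qS β Γ (β p.2 p'.2 + β p'.2 p.2, 0) * (qS β Γ p' * qS β Γ p) := by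
  rw [qS_mul, qS_mul, qS_mul]
  congr 1
  apply Prod.ext
  · simp only [map_zero, LinearMap.zero_apply, add_zero]
    have := add_self_zero (β p'.2 p.2)
    linear_combination -this
  · simp only [zero_add]
    exact add_comm _ _

theorem qS_commutator (p p' : ZMod 2 × U) :
    ⁅qS β Γ p, qS β Γ p'⁆ = qS β Γ (β p.2 p'.2 + β p'.2 p.2, 0) := by
  rw [commutatorElement_def]
  have h := qS_comm β Γ p p'
  calc qS β Γ p * qS β Γ p' * (qS β Γ p)⁻¹ * (qS β Γ p')⁻¹
      = (qS β Γ p * qS β Γ p') * (qS β Γ p' * qS β Γ p)⁻¹ := by group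
    _ = qS β Γ (β p.2 p'.2 + β p'.2 p.2, 0) := by rw [h]; group

theorem finite_ker [Nonempty U] (hnd : ∀ w : U, w ≠ 0 → ∃ v, β w v + β v w ≠ 0) :
    Finite ↥(p2 β Γ).ker := by
  apply Nat.finite_of_card_ne_zero
  rw [card_ker β Γ hnd]
  have : 0 < Fintype.card U := Fintype.card_pos
  omega

theorem card_center [Nonempty U] (hnd : ∀ w : U, w ≠ 0 → ∃ v, β w v + β v w ≠ 0) :
    Nat.card (Subgroup.center ↥(p2 β Γ).ker) = 2 := by
  have hbij : Function.Bijective (fun a : ZMod 2 =>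
      (⟨qS β Γ (a, 0), (mem_center_iff β Γ hnd (a, 0)).2 rfl⟩ : Subgroup.center ↥(p2 β Γ).ker)) := by
    constructor
    · intro a a' h
      have h1 := congrArg Subtype.val h
      exact (Prod.ext_iff.1 (qS_injective β Γ h1)).1
    · rintro ⟨x, hx⟩
      obtain ⟨p, rfl⟩ := qS_surjective β Γ hnd x
      have hp := (mem_center_iff β Γ hnd p).1 hx
      refine ⟨p.1, ?_⟩
      apply Subtype.ext
      show qS β Γ (p.1, 0) = qS β Γ p
      rw [← hp]
  rw [← Nat.card_congr (Equiv.ofBijective _ hbij), Nat.card_zmod]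

theorem isExtraspecial_ker [Nonempty U] (hnd : ∀ w : U, w ≠ 0 → ∃ v, β w v + β v w ≠ 0)
    (d : ℕ) (hcard : Fintype.card U = 2 ^ d) (w₀ : U) (hw₀ : w₀ ≠ 0) :
    Cfsg.IsExtraspecial 2 ↥(p2 β Γ).ker := by
  haveI : Fact (Nat.Prime 2) := ⟨Nat.prime_two⟩
  haveI := finite_ker β Γ hnd
  have hP : IsPGroup 2 ↥(p2 β Γ).ker := by
    apply IsPGroup.of_card (n := d + 1)
    rw [card_ker β Γ hnd, hcard, pow_succ]
    ring
  -- commutators are central
  have hcomm : commutator ↥(p2 β Γ).ker ≤ Subgroup.center ↥(p2 β Γ).ker := by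
    rw [commutator_eq_closure, Subgroup.closure_le]
    rintro x ⟨a, b, rfl⟩
    obtain ⟨p, rfl⟩ := qS_surjective β Γ hnd a
    obtain ⟨p', rfl⟩ := qS_surjective β Γ hnd b
    rw [SetLike.mem_coe, qS_commutator, mem_center_iff β Γ hnd]
  have hcomm' : Subgroup.center ↥(p2 β Γ).ker ≤ commutator ↥(p2 β Γ).ker := by
    intro x hx
    obtain ⟨p, rfl⟩ := qS_surjective β Γ hnd x
    have hp := (mem_center_iff β Γ hnd p).1 hx
    obtain ⟨v, hv⟩ := hnd w₀ hw₀
    have hv1 : β w₀ v + β v w₀ = 1 := by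
      rcases zmod2_eq_zero_or_one (β w₀ v + β v w₀) with h | h
      · exact absurd h hv
      · exact h
    rcases zmod2_eq_zero_or_one p.1 with h | h
    · have : p = (0, 0) := Prod.ext h hp
      rw [this, qS_zero]
      exact one_mem _
    · have : p = (β w₀ v + β v w₀, 0) := by
        rw [hv1]
        exact Prod.ext h hp
      rw [this, ← qS_commutator β Γ (0, w₀) (0, v), commutator_def]
      exact Subgroup.commutator_mem_commutator (Subgroup.mem_top _) (Subgroup.mem_top _)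
  have hceq : commutator ↥(p2 β Γ).ker = Subgroup.center ↥(p2 β Γ).ker := le_antisymm hcomm hcomm'
  have hfr1 : frattini ↥(p2 β Γ).ker ≤ Subgroup.center ↥(p2 β Γ).ker := by
    apply Cfsg.Agent.Lib.Lead.frattini_le_of_elementary_quotient (p := 2) _ hcomm
    intro x
    obtain ⟨p, rfl⟩ := qS_surjective β Γ hnd x
    rw [pow_two, qS_mul_self, mem_center_iff β Γ hnd]
  have hfr2 : Subgroup.center ↥(p2 β Γ).ker ≤ frattini ↥(p2 β Γ).ker := by
    rw [← hceq]
    exact Cfsg.Agent.Lib.Lead.commutator_le_frattini_of_isPGroup hP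
  exact ⟨⟨hP, le_antisymm hfr1 hfr2, hceq⟩, card_center β Γ hnd⟩

theorem finite_linearEquiv : Finite (U ≃ₗ[ZMod 2] U) :=
  Finite.of_injective (fun g : U ≃ₗ[ZMod 2] U => (g : U → U)) DFunLike.coe_injective

theorem finite_Rbig [Nonempty U] (hnd : ∀ w : U, w ≠ 0 → ∃ v, β w v + β v w ≠ 0) :
    Finite ↥(Rbig β Γ) := by
  haveI := finite_ker β Γ hnd
  haveI : Finite (U ≃ₗ[ZMod 2] U) := finite_linearEquiv
  haveI : Finite (↥(Rbig β Γ) ⧸ (p2 β Γ).ker) :=
    Finite.of_equiv _ (QuotientGroup.quotientKerEquivRange (p2 β Γ)).symm.toEquiv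
  apply Nat.finite_of_card_ne_zero
  rw [Subgroup.card_eq_card_quotient_mul_card_subgroup (p2 β Γ).ker]
  exact Nat.mul_ne_zero Nat.card_pos.ne' Nat.card_pos.ne'

end

end Cfsg.Agent.Lib.Helper5.Tw
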