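import Mathlib
import Cfsg.Agent.Lib.Helper5.Tw.Tw6

/-!
# The generic existence theorem
-/

set_option autoImplicit false

namespace Cfsg.Agent.Lib.Helper5.Tw

open Matrix

theorem main_generic {U : Type} [AddCommGroup U] [Module (ZMod 2) U] [Fintype U] [DecidableEq U]
    (β : LinearMap.BilinForm (ZMod 2) U) (hnd : ∀ w : U, w ≠ 0 → ∃ v, β w v + β v w ≠ 0)
    (d : ℕ) (hcard : Fintype.card U = 2 ^ d) (w₀ : U) (hw₀ : w₀ ≠ 0)
    {K : Type*} [Group K] (τ : K →* (U ≃ₗ[ZMod 2] U)) (hτ : Function.Injective τ)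
    (hq : ∀ k u, β (τ k u) (τ k u) = β u u) :
    ∃ (R : Type) (_ : Group R) (_ : Finite R) (Q : Subgroup R) (hN : Q.Normal) (e : R ⧸ Q ≃* K)
      (χ : ↥Q →* Multiplicative U),
      Cfsg.IsExtraspecial 2 ↥Q ∧ Nat.card ↥Q = 2 ^ (d + 1) ∧ Function.Surjective χ ∧
      χ.ker = Subgroup.center ↥Q ∧
      (∀ (r : R) (a : ↥Q), χ ⟨r * a * r⁻¹, hN.conj_mem (a : R) a.2 r⟩ =
        Multiplicative.ofAdd (τ (e (r : R ⧸ Q)) (Multiplicative.toAdd (χ a)))) ∧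
      ∀ a : ↥Q, a * a = 1 ↔ β (Multiplicative.toAdd (χ a)) (Multiplicative.toAdd (χ a)) = 0 := by
  haveI : Nonempty U := ⟨0⟩
  set Γ : Subgroup (U ≃ₗ[ZMod 2] U) := τ.range with hΓdef
  have hΓ : ∀ g ∈ Γ, ∀ u, β (g u) (g u) = β u u := by
    rintro g ⟨k, rfl⟩ u
    exact hq k u
  have hsurj := p2_surjective β Γ hnd hΓ
  let e₀ : K ≃* ↥Γ := MonoidHom.ofInjective hτ
  haveI := finite_Rbig β Γ hnd
  refine ⟨↥(Rbig β Γ), inferInstance, inferInstance, (p2 β Γ).ker, inferInstance,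
    (QuotientGroup.quotientKerEquivOfSurjective (p2 β Γ) hsurj).trans e₀.symm,
    chi β Γ hnd, isExtraspecial_ker β Γ hnd d hcard w₀ hw₀, ?_, chi_surjective β Γ hnd,
    ker_chi_eq_center β Γ hnd, ?_, mul_self_eq_one_iff' β Γ hnd⟩
  · rw [card_ker β Γ hnd, hcard, pow_succ]
    ring
  · intro r a
    rw [chi_conj β Γ hnd r a]
    congr 2
    -- `τ (e₀.symm (p2 r)) = r.1.2`
    have h1 : ((QuotientGroup.quotientKerEquivOfSurjective (p2 β Γ) hsurj).trans e₀.symm)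
        (r : ↥(Rbig β Γ) ⧸ (p2 β Γ).ker) = e₀.symm (p2 β Γ r) := rfl
    rw [h1]
    have h2 : ((e₀ (e₀.symm (p2 β Γ r)) : ↥Γ) : U ≃ₗ[ZMod 2] U) = τ (e₀.symm (p2 β Γ r)) :=
      MonoidHom.ofInjective_apply hτ
    rw [← h2, MulEquiv.apply_symm_apply, p2_coe]

end Cfsg.Agent.Lib.Helper5.Tw
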