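import Mathlib
import Cfsg.Agent.Lib.Helper5.Tw.Tw7

/-!
# Transport to an arbitrary quadratic space
-/

set_option autoImplicit false

namespace Cfsg.Agent.Lib.Helper5.Tw

theorem main {K : Type*} [Group K] {U : Type*} [AddCommGroup U] [Module (ZMod 2) U]
    [Module.Finite (ZMod 2) U] (n : ℕ) (hn1 : 1 ≤ n) (hn : Module.finrank (ZMod 2) U = 2 * n)
    (ρ : Representation (ZMod 2) K U) (hρ : Function.Injective ρ) (q : QuadraticForm (ZMod 2) U)
    (hq : ∀ (k : K) (u : U), q (ρ k u) = q u)
    (hnd : (QuadraticMap.polarBilin q).Nondegenerate) :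
    ∃ (R : Type) (_ : Group R) (_ : Finite R) (Q : Subgroup R) (hN : Q.Normal) (e : R ⧸ Q ≃* K)
      (χ : ↥Q →* Multiplicative U), Cfsg.IsExtraspecial 2 ↥Q ∧ Nat.card ↥Q = 2 ^ (2 * n + 1) ∧
      Function.Surjective χ ∧ χ.ker = Subgroup.center ↥Q ∧
      (∀ (r : R) (a : ↥Q), χ ⟨r * a * r⁻¹, hN.conj_mem (a : R) a.2 r⟩ =
        Multiplicative.ofAdd (ρ (e (r : R ⧸ Q)) (Multiplicative.toAdd (χ a)))) ∧
      ∀ a : ↥Q, a * a = 1 ↔ q (Multiplicative.toAdd (χ a)) = 0 := by
  classical
  -- coordinates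
  let θ : U ≃ₗ[ZMod 2] (Fin (2 * n) → ZMod 2) :=
    ((Module.finBasis (ZMod 2) U).reindex (finCongr hn)).equivFun
  let q₀ : QuadraticForm (ZMod 2) (Fin (2 * n) → ZMod 2) := q.comp θ.symm.toLinearMap
  obtain ⟨β, hβ⟩ := LinearMap.BilinMap.toQuadraticMap_surjective q₀
  have hβq : ∀ u, β u u = q (θ.symm u) := by
    intro u
    rw [← LinearMap.BilinMap.toQuadraticMap_apply, hβ]
    rfl
  -- nondegeneracy
  have hpol : ∀ w v, β w v + β v w = QuadraticMap.polar q (θ.symm w) (θ.symm v) := by
    intro w v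
    unfold QuadraticMap.polar
    rw [← map_add, ← hβq, ← hβq, ← hβq]
    simp only [map_add, LinearMap.add_apply]
    ring
  have hnd₀ : ∀ w : Fin (2 * n) → ZMod 2, w ≠ 0 → ∃ v, β w v + β v w ≠ 0 := by
    intro w hw
    by_contra hall
    simp only [not_exists, not_not] at hall
    apply hw
    have h1 : θ.symm w = 0 := by
      apply hnd.1
      intro y
      rw [QuadraticMap.polarBilin_apply_apply]
      have := hall (θ y)
      rw [hpol, LinearEquiv.symm_apply_apply] at this
      exact this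
    have := congrArg θ h1
    rw [LinearEquiv.apply_symm_apply, map_zero] at this
    exact this
  -- the action
  let τ₁ : K → ((Fin (2 * n) → ZMod 2) ≃ₗ[ZMod 2] (Fin (2 * n) → ZMod 2)) := fun k =>
    LinearEquiv.ofLinear (θ.toLinearMap ∘ₗ ρ k ∘ₗ θ.symm.toLinearMap)
      (θ.toLinearMap ∘ₗ ρ k⁻¹ ∘ₗ θ.symm.toLinearMap)
      (by
        ext u
        simp only [LinearMap.coe_comp, LinearEquiv.coe_coe, Function.comp_apply,
          LinearEquiv.symm_apply_apply, LinearMap.id_coe, id_eq]
        rw [← Module.End.mul_apply, ← map_mul, mul_inv_cancel, map_one, Module.End.one_apply,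
          LinearEquiv.apply_symm_apply])
      (by
        ext u
        simp only [LinearMap.coe_comp, LinearEquiv.coe_coe, Function.comp_apply,
          LinearEquiv.symm_apply_apply, LinearMap.id_coe, id_eq]
        rw [← Module.End.mul_apply, ← map_mul, inv_mul_cancel, map_one, Module.End.one_apply,
          LinearEquiv.apply_symm_apply])
  have hτ₁ : ∀ k u, τ₁ k u = θ (ρ k (θ.symm u)) := fun k u => rfl
  let τ : K →* ((Fin (2 * n) → ZMod 2) ≃ₗ[ZMod 2] (Fin (2 * n) → ZMod 2)) :=
    { toFun := τ₁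
      map_one' := by
        apply LinearEquiv.ext
        intro u
        rw [hτ₁, map_one, Module.End.one_apply, LinearEquiv.apply_symm_apply]
        rfl
      map_mul' := by
        intro k k'
        apply LinearEquiv.ext
        intro u
        rw [LinearEquiv.mul_apply, hτ₁, hτ₁, hτ₁, map_mul, Module.End.mul_apply,
          LinearEquiv.symm_apply_apply] }
  have hτ : ∀ k u, τ k u = θ (ρ k (θ.symm u)) := fun k u => rfl
  have hτinj : Function.Injective τ := by
    intro k k' h
    apply hρ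
    apply LinearMap.ext
    intro u
    have h1 := congrArg (fun g => g (θ u)) h
    simp only [hτ, LinearEquiv.symm_apply_apply] at h1
    exact θ.injective h1
  have hqτ : ∀ k u, β (τ k u) (τ k u) = β u u := by
    intro k u
    rw [hβq, hβq, hτ, LinearEquiv.symm_apply_apply, hq]
  have hcard : Fintype.card (Fin (2 * n) → ZMod 2) = 2 ^ (2 * n) := by
    rw [Fintype.card_fun, ZMod.card, Fintype.card_fin]
  have hw₀ : (fun _ : Fin (2 * n) => (1 : ZMod 2)) ≠ 0 := by
    intro h
    have := congrFun h ⟨0, by omega⟩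
    exact one_ne_zero_zmod2 this
  obtain ⟨R, iG, iF, Q, hN, e, χ₀, hex, hcardQ, hsurj, hker, hconj, hsq⟩ :=
    main_generic β hnd₀ (2 * n) hcard _ hw₀ τ hτinj hqτ
  -- transport `χ`
  let ψ : Multiplicative (Fin (2 * n) → ZMod 2) →* Multiplicative U :=
    AddMonoidHom.toMultiplicative θ.symm.toLinearMap.toAddMonoidHom
  have hψ : ∀ x, Multiplicative.toAdd (ψ x) = θ.symm (Multiplicative.toAdd x) := fun x => rfl
  have hψinj : Function.Injective ψ := by
    intro x y h
    have h1 : θ.symm (Multiplicative.toAdd x) = θ.symm (Multiplicative.toAdd y) :=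
      congrArg Multiplicative.toAdd h
    exact Multiplicative.toAdd.injective (θ.symm.injective h1)
  have hψsurj : Function.Surjective ψ := by
    intro y
    refine ⟨Multiplicative.ofAdd (θ (Multiplicative.toAdd y)), ?_⟩
    apply Multiplicative.toAdd.injective
    rw [hψ]
    exact θ.symm_apply_apply _
  refine ⟨R, iG, iF, Q, hN, e, ψ.comp χ₀, hex, hcardQ, hψsurj.comp hsurj, ?_, ?_, ?_⟩
  · rw [← hker]
    ext a
    rw [MonoidHom.mem_ker, MonoidHom.mem_ker, MonoidHom.comp_apply]
    constructor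
    · intro h
      apply hψinj
      rw [h, map_one]
    · intro h
      rw [h, map_one]
  · intro r a
    rw [MonoidHom.comp_apply, hconj r a, MonoidHom.comp_apply]
    apply Multiplicative.toAdd.injective
    rw [hψ]
    simp only [toAdd_ofAdd]
    rw [hτ, LinearEquiv.symm_apply_apply, hψ]
  · intro a
    rw [hsq a, hβq, MonoidHom.comp_apply, hψ]

end Cfsg.Agent.Lib.Helper5.Tw
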